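import Cfsg.Agent.PSU3Spec.Upper

/-!
Every element order of `PSU_3(q)`, `q` odd, divides one of the four numbers.
-/

set_option autoImplicit false

namespace Cfsg.Agent.PSU3Spec

open Polynomial Matrix Cfsg.Agent.Unitary

section FieldCases

variable {K : Type*} [Field K] {q d : ℕ} {a b c : K}

theorem pow_succ_eq_one_of_fixed {x : K} (hx0 : x ≠ 0) (h : (x ^ q)⁻¹ = x) : x ^ (q + 1) = 1 := by
  rw [pow_succ]
  nth_rw 2 [← h]
  exact mul_inv_cancel₀ (pow_ne_zero q hx0)

theorem swap_field (hd : d = Nat.gcd 3 (q + 1)) (hq : 2 ≤ q) (ha : a ≠ 0) (hb : b ≠ 0) (hc : c ≠ 0)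
    (hbc : (b ^ q)⁻¹ = c) (hcb : (c ^ q)⁻¹ = b) (hp : a * b * c = 1) :
    b ^ ((q ^ 2 - 1) / d) = a ^ ((q ^ 2 - 1) / d) ∧ c ^ ((q ^ 2 - 1) / d) = a ^ ((q ^ 2 - 1) / d) := by
  obtain ⟨h1, h2⟩ := swap_case (a := Units.mk0 a ha) (b := Units.mk0 b hb) (c := Units.mk0 c hc) hd hq
    (Units.ext (by simp [hbc])) (Units.ext (by simp [hcb])) (Units.ext (by simpa using hp))
  exact ⟨by simpa using congrArg Units.val h1, by simpa using congrArg Units.val h2⟩

theorem cycle_field (hd : d = Nat.gcd 3 (q + 1)) (ha : a ≠ 0) (hb : b ≠ 0) (hc : c ≠ 0)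
    (hab : (a ^ q)⁻¹ = b) (hbc : (b ^ q)⁻¹ = c) (hp : a * b * c = 1) :
    b ^ ((q ^ 2 - q + 1) / d) = a ^ ((q ^ 2 - q + 1) / d) ∧
      c ^ ((q ^ 2 - q + 1) / d) = a ^ ((q ^ 2 - q + 1) / d) := by
  obtain ⟨h1, h2⟩ := cycle_case (a := Units.mk0 a ha) (b := Units.mk0 b hb) (c := Units.mk0 c hc) hd
    (Units.ext (by simp [hab])) (Units.ext (by simp [hbc])) (Units.ext (by simpa using hp))
  exact ⟨by simpa using congrArg Units.val h1, by simpa using congrArg Units.val h2⟩

theorem repeat_field (hd : d = Nat.gcd 3 (q + 1)) (ha : a ≠ 0) (hc : c ≠ 0) (haq : a ^ (q + 1) = 1)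
    (hp : a * a * c = 1) : c ^ ((q + 1) / d) = a ^ ((q + 1) / d) := by
  have h1 := repeat_case (a := Units.mk0 a ha) (c := Units.mk0 c hc) hd (Units.ext (by simpa using haq))
    (Units.ext (by simpa using hp))
  simpa using congrArg Units.val h1

end FieldCases

variable {F : Type*} [Field F] [Fintype F] {q : ℕ}

/-- The image in `PSU` of a matrix with a scalar power. -/
theorem mk_pow_eq_one (hF : Fintype.card F = q ^ 2) {K : Type*} [Field K] [Algebra F K] (g : SU 3 F q)
    {m : ℕ} {r : K}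
    (h : ((g.1.1 : Matrix (Fin 3) (Fin 3) F).map (algebraMap F K)) ^ m = r • (1 : Matrix (Fin 3) (Fin 3) K)) :
    (QuotientGroup.mk g : PSU 3 F q) ^ m = 1 := by
  set M : Matrix (Fin 3) (Fin 3) F := g.1.1 with hM
  have hpow : (M ^ m).map (algebraMap F K) = r • (1 : Matrix (Fin 3) (Fin 3) K) := by
    rw [← h]
    exact map_pow (algebraMap F K).mapMatrix M m
  have hscal : M ^ m = (M ^ m) 0 0 • (1 : Matrix (Fin 3) (Fin 3) F) := by
    ext i j
    have h1 := congrFun (congrFun hpow i) j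
    have h0 := congrFun (congrFun hpow 0) 0
    simp only [Matrix.map_apply, Matrix.smul_apply, Matrix.one_apply, smul_eq_mul] at h1 h0 ⊢
    apply (algebraMap F K).injective
    rw [h1, map_mul, h0]
    split <;> simp
  rw [← QuotientGroup.mk_pow, QuotientGroup.eq_one_iff, mem_center_iff hF (by norm_num)]
  refine ⟨(M ^ m) 0 0, fun x => ?_⟩
  show (g ^ m).1.1 *ᵥ x = _
  rw [SubgroupClass.coe_pow, Matrix.SpecialLinearGroup.coe_pow, ← hM]
  conv_lhs => rw [hscal, Matrix.smul_mulVec, Matrix.one_mulVec]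

/-- The bound on element orders. -/
theorem orderOf_dvd_cases (p : ℕ) [Fact p.Prime] [CharP F p] (hp : p ≠ 2) (hF : Fintype.card F = q ^ 2)
    (x : PSU 3 F q) :
    orderOf x ∣ q + 1 ∨ orderOf x ∣ p * (q + 1) / Nat.gcd 3 (q + 1) ∨
      orderOf x ∣ (q ^ 2 - 1) / Nat.gcd 3 (q + 1) ∨ orderOf x ∣ (q ^ 2 - q + 1) / Nat.gcd 3 (q + 1) := by
  obtain ⟨g, rfl⟩ := QuotientGroup.mk_surjective x
  have hq2 := two_le_q hF
  obtain ⟨p', k, hp', -, hc', hqk⟩ := exists_prime_pow hF
  obtain rfl : p = p' := CharP.eq F ‹CharP F p› hc'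
  set K := AlgebraicClosure F
  haveI : CharP K p := charP_of_injective_algebraMap (algebraMap F K).injective p
  haveI : ExpChar K p := ExpChar.prime Fact.out
  set σ : K →+* K := iterateFrobenius K p k with hσdef
  have hσ : ∀ y, σ y = y ^ q := fun y => by rw [hqk]; rfl
  set d := Nat.gcd 3 (q + 1) with hd
  set M : Matrix (Fin 3) (Fin 3) F := g.1.1 with hM
  set N : Matrix (Fin 3) (Fin 3) K := M.map (algebraMap F K) with hN
  have hgram : Mᵀ * M.map (fun y => y ^ q) = 1 := (AutPSU.mem_GU_iff_gram hF).1 (toGU g).2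
  have hdet : N.det = 1 := by
    rw [hN, ← RingHom.mapMatrix_apply, ← RingHom.map_det, show M.det = 1 from g.1.2, map_one]
  have hgramK : Nᵀ * N.map σ = 1 := by
    have h1 := congrArg (fun A : Matrix (Fin 3) (Fin 3) F => A.map (algebraMap F K)) hgram
    simp only [Matrix.map_mul, Matrix.map_one _ (map_zero _) (map_one _)] at h1
    rw [← h1, hN, Matrix.transpose_map, Matrix.map_map, Matrix.map_map]
    congr 2
    funext y
    simp [Function.comp, hσ]
  set R := N.charpoly.roots with hR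
  have hτ : R.map (fun y => (y ^ q)⁻¹) = R := by
    have h1 : (N.map σ).charpoly.roots = R.map σ := by
      rw [charpoly_map, (IsAlgClosed.splits N.charpoly).roots_map]
    have h2 : (N.map σ).charpoly.roots = R.map fun y => y⁻¹ := by
      rw [← Matrix.inv_eq_right_inv hgramK, roots_charpoly_inv _ (by rw [det_transpose, hdet]),
        charpoly_transpose]
    rw [h1] at h2
    have h3 := congrArg (Multiset.map fun y : K => y⁻¹) h2
    rw [Multiset.map_map, Multiset.map_map] at h3
    refine (Multiset.map_congr rfl fun y _ => ?_).trans (h3.trans ?_)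
    · show (y ^ q)⁻¹ = (σ y)⁻¹
      rw [hσ]
    · refine (Multiset.map_congr rfl fun y _ => ?_).trans (Multiset.map_id R)
      show (y⁻¹)⁻¹ = y
      exact _root_.inv_inv y
  have hcard : R.card = 3 := by
    rw [hR, ← (IsAlgClosed.splits N.charpoly).natDegree_eq_card_roots, charpoly_natDegree_eq_dim,
      Fintype.card_fin]
  have hfac : ∀ {a b c : K}, R = {a, b, c} →
      N.charpoly = (X - C a) * (X - C b) * (X - C c) ∧ a * b * c = 1 ∧ a ≠ 0 ∧ b ≠ 0 ∧ c ≠ 0 := by
    intro a b c h
    have hp1 : a * b * c = 1 := by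
      rw [← hdet, det_eq_prod_roots_charpoly, ← hR, h]
      simp [mul_assoc]
    refine ⟨?_, hp1, fun e => by simp [e] at hp1, fun e => by simp [e] at hp1,
      fun e => by simp [e] at hp1⟩
    rw [(IsAlgClosed.splits N.charpoly).eq_prod_roots_of_monic N.charpoly_monic, ← hR, h]
    simp [mul_assoc]
  have hfin : ∀ {m : ℕ} {r : K}, N ^ m = r • (1 : Matrix (Fin 3) (Fin 3) K) →
      orderOf (QuotientGroup.mk g : PSU 3 F q) ∣ m := fun h =>
    orderOf_dvd_of_pow_eq_one (mk_pow_eq_one hF g h)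
  have hp3 : 3 ≤ p := by have := (Fact.out : p.Prime).two_le; omega
  -- a repeated root
  have hrep : ∀ {a c : K}, R = {a, a, c} → (a ^ q)⁻¹ = a →
      orderOf (QuotientGroup.mk g : PSU 3 F q) ∣ p * (q + 1) / d := by
    intro a c h hfix
    obtain ⟨hP, hp1, ha, -, hc⟩ := hfac h
    have hd3 : d ∣ q + 1 := Nat.gcd_dvd_right _ _
    rw [Nat.mul_div_assoc p hd3]
    exact hfin (pow_smul_of_repeated hp3 N hP rfl rfl
      (repeat_field hd ha hc (pow_succ_eq_one_of_fixed ha hfix) hp1))
  have hswap : ∀ {a b c : K}, R = {a, b, c} → a ≠ b → a ≠ c → b ≠ c → (b ^ q)⁻¹ = c → (c ^ q)⁻¹ = b →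
      orderOf (QuotientGroup.mk g : PSU 3 F q) ∣ (q ^ 2 - 1) / d := by
    intro a b c h hab hac hbc h1 h2
    obtain ⟨hP, hp1, ha, hb, hc⟩ := hfac h
    obtain ⟨e1, e2⟩ := swap_field hd hq2 ha hb hc h1 h2 hp1
    exact hfin (pow_smul_of_distinct N hP hab hac hbc rfl e1 e2)
  have hcyc : ∀ {a b c : K}, R = {a, b, c} → a ≠ b → a ≠ c → b ≠ c → (a ^ q)⁻¹ = b → (b ^ q)⁻¹ = c →
      orderOf (QuotientGroup.mk g : PSU 3 F q) ∣ (q ^ 2 - q + 1) / d := by
    intro a b c h hab hac hbc h1 h2
    obtain ⟨hP, hp1, ha, hb, hc⟩ := hfac h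
    obtain ⟨e1, e2⟩ := cycle_field hd ha hb hc h1 h2 hp1
    exact hfin (pow_smul_of_distinct N hP hab hac hbc rfl e1 e2)
  have hmem : ∀ y ∈ R, (y ^ q)⁻¹ ∈ R := fun y hy => by
    have := Multiset.mem_map_of_mem (fun y => (y ^ q)⁻¹) hy
    rwa [hτ] at this
  have hinj : ∀ y z : K, (y ^ q)⁻¹ = (z ^ q)⁻¹ → y = z := fun y z h => by
    have h1 := inv_injective h
    rw [← hσ, ← hσ] at h1
    exact σ.injective h1
  obtain ⟨a, b, c, habc⟩ := Multiset.card_eq_three.mp hcard
  by_cases hdist : a ≠ b ∧ a ≠ c ∧ b ≠ c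
  · obtain ⟨hab, hac, hbc⟩ := hdist
    have hma := hmem a (by simp [habc])
    have hmb := hmem b (by simp [habc])
    have hmc := hmem c (by simp [habc])
    simp only [habc, Multiset.insert_eq_cons, Multiset.mem_cons, Multiset.mem_singleton] at hma hmb hmc
    rcases hma with e1 | e1 | e1 <;> rcases hmb with e2 | e2 | e2 <;> rcases hmc with e3 | e3 | e3
    all_goals first
      | exact absurd (hinj a b (e1.trans e2.symm)) hab
      | exact absurd (hinj a c (e1.trans e3.symm)) hac
      | exact absurd (hinj b c (e2.trans e3.symm)) hbc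
      | skip
    · left
      obtain ⟨hP, -, ha, hb, hc⟩ := hfac habc
      exact hfin (pow_smul_of_distinct N hP hab hac hbc (pow_succ_eq_one_of_fixed ha e1)
        (pow_succ_eq_one_of_fixed hb e2) (pow_succ_eq_one_of_fixed hc e3))
    · exact Or.inr (Or.inr (Or.inl (hswap habc hab hac hbc e2 e3)))
    · have hperm : R = {c, a, b} := by
        rw [habc]
        simp [Multiset.insert_eq_cons, Multiset.cons_swap, ← Multiset.singleton_add]
        abel
      exact Or.inr (Or.inr (Or.inl (hswap hperm hac.symm hbc.symm hab e1 e2)))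
    · exact Or.inr (Or.inr (Or.inr (hcyc habc hab hac hbc e1 e2)))
    · have hperm : R = {a, c, b} := by
        rw [habc]
        simp [Multiset.insert_eq_cons, ← Multiset.singleton_add]
        abel
      exact Or.inr (Or.inr (Or.inr (hcyc hperm hac hab hbc.symm e1 e3)))
    · have hperm : R = {b, a, c} := by
        rw [habc]
        simp [Multiset.insert_eq_cons, ← Multiset.singleton_add]
        abel
      exact Or.inr (Or.inr (Or.inl (hswap hperm hab.symm hbc hac e1 e3)))
  · obtain ⟨x, z, hxz⟩ : ∃ x z, R = {x, x, z} := by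
      simp only [not_and_or, not_not] at hdist
      rcases hdist with rfl | rfl | rfl
      · exact ⟨a, c, habc⟩
      · exact ⟨a, b, by rw [habc]; simp [Multiset.insert_eq_cons, ← Multiset.singleton_add]; abel⟩
      · exact ⟨b, a, by rw [habc]; simp [Multiset.insert_eq_cons, ← Multiset.singleton_add]; abel⟩
    refine Or.inr (Or.inl (hrep hxz ?_))
    have hmx := hmem x (by simp [hxz])
    simp only [hxz, Multiset.insert_eq_cons, Multiset.mem_cons, Multiset.mem_singleton] at hmx
    rcases hmx with h | h | h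
    · exact h
    · exact h
    · by_cases hzx : z = x
      · exact h.trans hzx
      · classical
        have h1 := congrArg (Multiset.count z) hτ
        rw [hxz] at h1
        simp only [Multiset.insert_eq_cons, Multiset.map_cons, Multiset.map_singleton, h,
          Multiset.count_cons_self, Multiset.count_cons_of_ne hzx, Multiset.count_singleton_self] at h1
        omega

end Cfsg.Agent.PSU3Spec
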