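import Cfsg.Agent.PSU3Spec.Lower

/-!
An element of `SU_3(q)` whose eigenvalues form a Frobenius orbit of order `q^2 - q + 1`.
-/

set_option autoImplicit false

namespace Cfsg.Agent.PSU3Spec

open Matrix Cfsg.Agent.Unitary

variable {F : Type*} [Field F] [Fintype F] {q : ℕ}

/-- Elements fixed by `x ↦ x^|F|` come from `F`. -/
theorem mem_range_of_pow {K : Type*} [Field K] [Algebra F K] {x : K} (h : x ^ Fintype.card F = x) :
    x ∈ (algebraMap F K).range := by
  classical
  by_contra hx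
  set P : Polynomial K := Polynomial.X ^ Fintype.card F - Polynomial.X
  have h1 : 1 < Fintype.card F := Fintype.one_lt_card
  have hdeg : P.natDegree = Fintype.card F := FiniteField.X_pow_card_sub_X_natDegree_eq K h1
  have hP0 : P ≠ 0 := FiniteField.X_pow_card_sub_X_ne_zero K h1
  have hsub : insert x (Finset.univ.image (algebraMap F K)) ⊆ P.roots.toFinset := by
    intro y hy
    rw [Multiset.mem_toFinset, Polynomial.mem_roots hP0]
    show P.eval y = 0
    rcases Finset.mem_insert.1 hy with rfl | hy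
    · simp [P, h]
    · obtain ⟨z, -, rfl⟩ := Finset.mem_image.1 hy
      simp [P, ← map_pow, FiniteField.pow_card]
  have hnot : x ∉ Finset.univ.image (algebraMap F K) := fun hy => by
    obtain ⟨z, -, hz⟩ := Finset.mem_image.1 hy
    exact hx ⟨z, hz⟩
  have h2 := (Finset.card_le_card hsub).trans ((Multiset.toFinset_card_le _).trans P.card_roots')
  rw [Finset.card_insert_of_notMem hnot, Finset.card_image_of_injective _ (algebraMap F K).injective,
    Finset.card_univ, hdeg] at h2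
  omega

theorem not_three_dvd {n d : ℕ} (hd : d = Nat.gcd 3 (q + 1)) (hn : d * n = q ^ 2 - q + 1) : ¬ 3 ∣ n := by
  rintro ⟨j, rfl⟩
  have hqq : q ≤ q ^ 2 := Nat.le_self_pow two_ne_zero q
  have h1 : d * (3 * j) + q = q ^ 2 + 1 := by omega
  rcases (Nat.dvd_prime Nat.prime_three).1 (hd ▸ Nat.gcd_dvd_left 3 (q + 1)) with h | h
  · subst h
    have h3 : ¬ 3 ∣ q + 1 := fun h3 => by
      have := Nat.dvd_gcd (dvd_refl 3) h3
      rw [← hd] at this
      norm_num at this
    have h2 := congrArg (· % 3) h1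
    rcases (show q % 3 = 0 ∨ q % 3 = 1 by omega) with h | h <;>
      simp [Nat.add_mod, Nat.mul_mod, Nat.pow_mod, h] at h2
  · obtain ⟨i, hi⟩ := Nat.gcd_dvd_right 3 (q + 1)
    rw [← hd, h] at hi
    subst h
    have h2 : (q + 1) ^ 2 = 9 * i ^ 2 := by rw [hi]; ring
    have h3 : (q + 1) ^ 2 = q ^ 2 + 2 * q + 1 := by ring
    omega

/-- Order `(q^2 - q + 1) / d`. -/
theorem mem_singer (p : ℕ) [Fact p.Prime] [CharP F p] (hF : Fintype.card F = q ^ 2) (hq3 : 3 ≤ q) {s : ℕ}
    (hs : s ∣ (q ^ 2 - q + 1) / Nat.gcd 3 (q + 1)) : s ∈ Set.range (orderOf : PSU 3 F q → ℕ) := by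
  obtain ⟨e, t, he, ht, hd0⟩ := exists_factor (q := q) rfl
  obtain ⟨p', k, hp', hk, hc', hqk⟩ := exists_prime_pow hF
  obtain rfl : p = p' := CharP.eq F ‹CharP F p› hc'
  set K := AlgebraicClosure F
  haveI : CharP K p := charP_of_injective_algebraMap (algebraMap F K).injective p
  haveI : ExpChar K p := ExpChar.prime Fact.out
  set σ : K →+* K := iterateFrobenius K p k with hσdef
  have hσ : ∀ y, σ y = y ^ q := fun y => by rw [hqk]; rfl
  have hqq : q ≤ q ^ 2 := Nat.le_self_pow two_ne_zero q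
  set N := q ^ 2 - q + 1 with hN
  have hpN : ¬ p ∣ N := by
    intro h
    have h6 : p ∣ q := hqk ▸ dvd_pow_self p hk.ne'
    have h7 : p ∣ q ^ 2 - q := Nat.dvd_sub (h6.trans (dvd_pow_self q two_ne_zero)) h6
    exact (Fact.out : p.Prime).not_dvd_one ((Nat.dvd_add_right h7).1 h)
  haveI : NeZero (N : K) := ⟨fun h => hpN ((CharP.cast_eq_zero_iff K p N).1 h)⟩
  haveI : NeZero N := ⟨by omega⟩
  haveI : NeZero (N : F) := ⟨fun h => hpN ((CharP.cast_eq_zero_iff F p N).1 h)⟩
  obtain ⟨a, ha⟩ := HasEnoughRootsOfUnity.exists_primitiveRoot K N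
  have haN : a ^ N = 1 := ha.pow_eq_one
  have hcube : a ^ (q ^ 3 + 1) = 1 := by
    rw [show q ^ 3 + 1 = N * (q + 1) by
      zify [hqq]
      rw [hN]
      push_cast [Nat.cast_sub hqq]
      ring, pow_mul, haN, one_pow]
  have ha0 : a ≠ 0 := ha.ne_zero (NeZero.ne N)
  set x : Fin 3 → K := ![a, a ^ q ^ 2, a ^ q ^ 4] with hx
  have hx2 : (x 2) ^ q ^ 2 = a := by
    have h6 : a ^ ((q ^ 3 + 1) * (q ^ 3 - 1)) = 1 := by rw [pow_mul, hcube, one_pow]
    have : q ^ 4 * q ^ 2 = (q ^ 3 + 1) * (q ^ 3 - 1) + 1 := by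
      have h1 : 1 ≤ q ^ 3 := Nat.one_le_pow _ _ (by omega)
      zify [h1]
      ring
    show (a ^ q ^ 4) ^ q ^ 2 = a
    rw [← pow_mul, this, pow_succ, h6, one_mul]
  have hxs : ∀ i : Fin 3, x i ^ q ^ 2 = x (i + 1) := by
    intro i
    fin_cases i
    · rfl
    · show (a ^ q ^ 2) ^ q ^ 2 = a ^ q ^ 4
      rw [← pow_mul]; ring_nf
    · exact hx2
  have hxinv : ∀ i : Fin 3, x i * (x (i + 1)) ^ q = 1 := by
    intro i
    rw [← hxs, ← pow_mul, ← pow_succ', show q ^ 2 * q = q ^ 3 by ring]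
    fin_cases i
    · exact hcube
    · show (a ^ q ^ 2) ^ (q ^ 3 + 1) = 1
      rw [← pow_mul, mul_comm, pow_mul, hcube, one_pow]
    · show (a ^ q ^ 4) ^ (q ^ 3 + 1) = 1
      rw [← pow_mul, mul_comm, pow_mul, hcube, one_pow]
  have hne : a ^ q ^ 2 ≠ a := by
    intro h
    have h1 : a ^ (q ^ 2 - 1) = 1 := by
      apply mul_right_cancel₀ ha0
      rw [← pow_succ, one_mul, Nat.sub_add_cancel (by omega), h]
    have h2 : N ∣ q ^ 2 - 1 := (ha.pow_eq_one_iff_dvd _).1 h1
    have h3 : q ^ 2 - 1 = N + (q - 2) := by omega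
    rw [h3] at h2
    have h4 := Nat.le_of_dvd (by omega) ((Nat.dvd_add_right dvd_rfl).1 h2)
    have h5 : 3 * q ≤ q ^ 2 := by rw [sq]; exact Nat.mul_le_mul_right q hq3
    omega
  have hstep : ∀ i : Fin 3, x (i + 1) = x i → x (i + 1 + 1) = x (i + 1) := fun i h =>
    (hxs (i + 1)).symm.trans ((congrArg (· ^ q ^ 2) h).trans (hxs i))
  have hcyc : ∀ i : Fin 3, x (i + 1) ≠ x i := by
    intro i h
    have h' := hstep i h
    have h'' := hstep (i + 1) h'
    fin_cases i
    · exact hne h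
    · exact hne h''
    · exact hne h'
  have hxinj : Function.Injective x := by
    intro i j h
    fin_cases i <;> fin_cases j
    all_goals first
      | rfl
      | exact absurd h (hcyc 0).symm
      | exact absurd h (hcyc 0)
      | exact absurd h (hcyc 1).symm
      | exact absurd h (hcyc 1)
      | exact absurd h (hcyc 2).symm
      | exact absurd h (hcyc 2)
  -- symmetric functions
  have hfix : ∀ {y : K}, y ^ q ^ 2 = y → ∃ z : F, algebraMap F K z = y := fun {y} h =>
    RingHom.mem_range.1 (mem_range_of_pow (by rwa [hF]))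
  have hfr : ∀ y : K, y ^ q ^ 2 = σ (σ y) := fun y => by rw [hσ, hσ, ← pow_mul, sq]
  have hx' : ∀ i, σ (σ (x i)) = x (i + 1) := fun i => by rw [← hfr, hxs]
  obtain ⟨c2, hc2⟩ := hfix (y := x 0 + x 1 + x 2) (by
    rw [hfr]; simp only [map_add, hx']; show x 1 + x 2 + x 0 = _; ring)
  obtain ⟨c1, hc1⟩ := hfix (y := -(x 0 * x 1 + x 1 * x 2 + x 2 * x 0)) (by
    rw [hfr]; simp only [map_add, map_mul, map_neg, hx']
    show -(x 1 * x 2 + x 2 * x 0 + x 0 * x 1) = _; ring)
  have hprod : x 0 * x 1 * x 2 = 1 := by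
    show a * a ^ q ^ 2 * a ^ q ^ 4 = 1
    rw [← pow_succ', ← pow_add, show q ^ 2 + 1 + q ^ 4 = N * (q ^ 2 + q + 1) by
      zify
      rw [hN]
      push_cast [Nat.cast_sub hqq]
      ring, pow_mul, haN, one_pow]
  have hrel : ∀ i, x i ^ 3 = algebraMap F K c2 * x i ^ 2 + algebraMap F K c1 * x i + 1 := by
    intro i
    rw [hc2, hc1, ← hprod]
    fin_cases i <;> simp only [Fin.zero_eta, Fin.mk_one, Fin.reduceFinMk] <;> ring
  -- the form
  let φ : Fin 3 → (Fin 3 → F) → K := fun i v => ∑ l, algebraMap F K (v l) * x i ^ (l : ℕ)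
  have hT : ∀ l j : Fin 3, ∃ h : F,
      algebraMap F K h = ∑ i, x i ^ (l : ℕ) * ((x (i + 1)) ^ q) ^ (j : ℕ) := by
    intro l j
    refine hfix ?_
    rw [hfr]
    simp only [map_sum, map_mul, map_pow, hx']
    exact Fintype.sum_equiv (Equiv.addRight (1 : Fin 3)) _ _ fun i => rfl
  choose T hT using hT
  set H : Matrix (Fin 3) (Fin 3) F := Matrix.of T with hH
  have hform : ∀ v w, algebraMap F K (formOf q H v w) = ∑ i, φ i v * φ (i + 1) w ^ q := by
    intro v w
    have hσφ : ∀ i, φ (i + 1) w ^ q = ∑ j, algebraMap F K (w j ^ q) * ((x (i + 1)) ^ q) ^ (j : ℕ) := by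
      intro i
      rw [← hσ, map_sum]
      refine Finset.sum_congr rfl fun j _ => ?_
      rw [hσ, mul_pow, ← map_pow, ← pow_mul, ← pow_mul, mul_comm (j : ℕ)]
    simp only [formOf, dotProduct, Matrix.mulVec, map_sum, map_mul, hH, Matrix.of_apply, hT, hσφ, φ,
      Finset.mul_sum, Finset.sum_mul]
    rw [Finset.sum_comm_cycle]
    refine Finset.sum_congr rfl fun i _ => ?_
    rw [Finset.sum_comm]
    refine Finset.sum_congr rfl fun l _ => ?_
    exact Finset.sum_congr rfl fun j _ => by ring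
  set C : Matrix (Fin 3) (Fin 3) F := !![0, 0, 1; 1, 0, c1; 0, 1, c2] with hC
  have hCφ : ∀ i v, φ i (C *ᵥ v) = x i * φ i v := by
    intro i v
    simp only [φ, hC, Matrix.mulVec, dotProduct, Fin.sum_univ_three]
    simp [map_add, map_mul]
    linear_combination (-(algebraMap F K (v 2))) * hrel i
  refine witness hF H (fun l j => ?_) (fun v hv => ?_) C ?_ (fun v w => ?_) (fun m r hm => ?_) hs
  · show T l j ^ q = T j l
    apply (algebraMap F K).injective
    rw [map_pow, hT, hT, ← hσ, map_sum]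
    refine Fintype.sum_equiv (Equiv.addRight (2 : Fin 3)) _ _ fun i => ?_
    show σ _ = x (i + 2) ^ (j : ℕ) * (x (i + 2 + 1) ^ q) ^ (l : ℕ)
    have e2 : i + 2 + 1 = i := by fin_cases i <;> rfl
    have e1 : σ (x (i + 1) ^ q) = x (i + 2) := by
      rw [hσ, ← pow_mul, ← sq, hxs]
      congr 1
      fin_cases i <;> rfl
    rw [map_mul, map_pow, map_pow, e1, hσ, e2, mul_comm]
  · have hz : ∀ j : Fin 3, ∑ i, φ i v * ((x (i + 1)) ^ q) ^ (j : ℕ) = 0 := by
      intro j
      have h1 := congrArg (algebraMap F K) (hv (eI j))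
      rw [map_zero, hform] at h1
      simpa [φ, eI, Pi.single_apply, apply_ite (algebraMap F K), mul_pow, ← pow_mul, mul_comm] using h1
    have hinj2 : Function.Injective fun i : Fin 3 => (x (i + 1)) ^ q := fun i j h => by
      have h1 : x (i + 1) = x (j + 1) := σ.injective (by rw [hσ, hσ]; exact h)
      exact add_right_cancel (hxinj h1)
    have hφ0 := congrFun (Matrix.eq_zero_of_forall_pow_sum_mul_pow_eq_zero hinj2 hz)
    have hv0 := Matrix.eq_zero_of_forall_index_sum_mul_pow_eq_zero hxinj (fun i => hφ0 i)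
    funext l
    exact (algebraMap F K).injective (by rw [congrFun hv0 l]; simp)
  · rw [det_fin_three]
    simp [hC]
  · apply (algebraMap F K).injective
    rw [hform, hform]
    refine Finset.sum_congr rfl fun i _ => ?_
    rw [hCφ, hCφ, mul_pow]
    calc x i * φ i v * (x (i + 1) ^ q * φ (i + 1) w ^ q)
        = x i * x (i + 1) ^ q * (φ i v * φ (i + 1) w ^ q) := by ring
      _ = _ := by rw [hxinv, one_mul]
  · have hpow : ∀ (j : ℕ) v, φ 0 ((C ^ j) *ᵥ v) = a ^ j * φ 0 v := by
      intro j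
      induction j with
      | zero => simp
      | succ j ih =>
        intro v
        rw [pow_succ', ← Matrix.mulVec_mulVec, hCφ, ih, pow_succ']
        show a * _ = _
        ring
    have h1 := hpow m (eI 0)
    rw [hm, Matrix.smul_mulVec, Matrix.one_mulVec] at h1
    have hr : algebraMap F K r = a ^ m := by
      simpa [φ, eI, Pi.single_apply, Fin.sum_univ_three] using h1
    have h2 : (a ^ m) ^ q ^ 2 = a ^ m := by rw [← hr, ← map_pow, ← hF, FiniteField.pow_card]
    have h3 : a ^ (m * (q ^ 2 - 1)) = 1 := by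
      apply mul_right_cancel₀ (pow_ne_zero m ha0)
      rw [← pow_add, one_mul, show m * (q ^ 2 - 1) + m = m * q ^ 2 by
        conv_rhs => rw [← Nat.sub_add_cancel (show 1 ≤ q ^ 2 by omega), mul_add, mul_one],
        pow_mul, h2]
    have h4 : N ∣ m * (q ^ 2 - 1) := (ha.pow_eq_one_iff_dvd _).1 h3
    have hdN : Nat.gcd 3 (q + 1) ∣ N := by
      have hd1 := Nat.gcd_dvd_right 3 (q + 1)
      have hd2 := Nat.gcd_dvd_left 3 (q + 1)
      have e1 : N + 3 * q = (q + 1) * (q + 1) := by rw [show (q + 1) * (q + 1) = q ^ 2 + 2 * q + 1 by ring]; omega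
      exact (Nat.dvd_add_left (hd2.trans (dvd_mul_right 3 q))).1 (e1 ▸ hd1.trans (dvd_mul_right _ _))
    obtain ⟨n, hn⟩ := hdN
    rw [hn, Nat.mul_div_cancel_left _ hd0]
    have h5 : N ∣ m * (q - 2) := by
      have e1 : q ^ 2 - 1 = N + (q - 2) := by omega
      rw [e1, mul_add] at h4
      exact (Nat.dvd_add_right (dvd_mul_left N m)).1 h4
    have h6 : n ∣ m * (q - 2) := (Dvd.intro_left _ hn.symm).trans h5
    have h7 : n ∣ 3 * m := by
      have e2 : N = (q - 2) * (q + 1) + 3 := by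
        obtain ⟨s', rfl⟩ : ∃ s', q = s' + 2 := ⟨q - 2, by omega⟩
        rw [Nat.add_sub_cancel]
        have : (s' + 2) ^ 2 = s' * (s' + 2 + 1) + 2 + (s' + 2) := by ring
        omega
      have h8 : n ∣ m * (q - 2) * (q + 1) + 3 * m := by
        rw [show m * (q - 2) * (q + 1) + 3 * m = m * N by rw [e2]; ring]
        exact (Dvd.intro_left _ hn.symm).trans (dvd_mul_left N m)
      exact (Nat.dvd_add_right (h6.trans (dvd_mul_right _ _))).1 h8
    exact ((Nat.prime_three.coprime_iff_not_dvd.2 (not_three_dvd rfl hn.symm)).symm).dvd_of_dvd_mul_left h7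

end Cfsg.Agent.PSU3Spec
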