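import Cfsg.Agent.PSU3Spec.Upper
import Cfsg.Agent.Lib.Forms.Sesq

/-!
Elements of `PSU_3(q)` realising the four orders, built from isometries of arbitrary Hermitian forms.
-/

set_option autoImplicit false

namespace Cfsg.Agent.PSU3Spec

open Matrix Cfsg.Agent.Unitary

variable {F : Type*} [Field F] [Fintype F] {q : ℕ}

/-- The form of a matrix. -/
def formOf (q : ℕ) (H : Matrix (Fin 3) (Fin 3) F) (v w : Fin 3 → F) : F :=
  v ⬝ᵥ (H *ᵥ fun j => w j ^ q)

/-- The divisors of `N` are element orders if some isometry of a Hermitian form has no smaller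
scalar power. -/
theorem witness (hF : Fintype.card F = q ^ 2) (H : Matrix (Fin 3) (Fin 3) F)
    (hherm : ∀ i j, H i j ^ q = H j i) (hnd : ∀ v, (∀ w, formOf q H v w = 0) → v = 0)
    (M : Matrix (Fin 3) (Fin 3) F) (hdet : M.det = 1)
    (hinv : ∀ v w, formOf q H (M *ᵥ v) (M *ᵥ w) = formOf q H v w)
    {N : ℕ} (hscal : ∀ m (r : F), M ^ m = r • (1 : Matrix (Fin 3) (Fin 3) F) → N ∣ m)
    {s : ℕ} (hs : s ∣ N) : s ∈ Set.range (orderOf : PSU 3 F q → ℕ) := by
  have hσ2 : ∀ a : F, conjHom hF (conjHom hF a) = a := pow_q_pow_q hF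
  have hadd_right : ∀ v w w', formOf q H v (w + w') = formOf q H v w + formOf q H v w' := by
    intro v w w'
    simp only [formOf, Pi.add_apply, add_pow_q hF]
    rw [← dotProduct_add, ← Matrix.mulVec_add]
    rfl
  have hsmul_right : ∀ (a : F) v w, formOf q H v (a • w) = a ^ q * formOf q H v w := by
    intro a v w
    simp only [formOf, Pi.smul_apply, smul_eq_mul, mul_pow]
    rw [show (fun j => a ^ q * w j ^ q) = a ^ q • fun j => w j ^ q from rfl, Matrix.mulVec_smul,
      dotProduct_smul, smul_eq_mul]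
  let B : (Fin 3 → F) →ₛₗ[conjHom hF] (Fin 3 → F) →ₗ[F] F :=
    LinearMap.mk₂'ₛₗ (conjHom hF) (RingHom.id F) (fun x y => formOf q H y x)
      (fun x x' y => hadd_right y x x') (fun a x y => hsmul_right a y x)
      (fun x y y' => add_dotProduct _ _ _) (fun a x y => smul_dotProduct _ _ _)
  have hswap : ∀ v w, formOf q H v w ^ q = formOf q H w v := by
    intro v w
    simp only [formOf, dotProduct, Matrix.mulVec, sum_pow_q hF, mul_pow, pow_q_pow_q hF, Finset.mul_sum,
      hherm]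
    rw [Finset.sum_comm]
    exact Finset.sum_congr rfl fun i _ => Finset.sum_congr rfl fun j _ => by ring
  have hN : B.Nondegenerate := ⟨fun x h => hnd x fun w => by
      have h1 := h w
      change formOf q H w x = 0 at h1
      rw [← hswap w x, h1, zero_pow_q hF],
    fun y h => hnd y fun w => h w⟩
  obtain ⟨b, -, hb⟩ := Forms.exists_orthonormal_family (σ := conjHom hF) (conjHom_ne_id hF) hσ2 B
    ⟨fun x y => hswap y x⟩ 3 ⊤ (fun w _ h => hN.1 w fun v => h v Submodule.mem_top)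
    (by rw [finrank_top, Module.finrank_fin_fun])
  set P : Matrix (Fin 3) (Fin 3) F := Matrix.of fun i j => b j i with hPdef
  have hcol : ∀ j, P *ᵥ eI j = b j := fun j => by
    ext i
    simp [hPdef, eI, Matrix.mulVec_single]
  have hP : ∀ x y, formOf q H (P *ᵥ x) (P *ᵥ y) = herm q x y := by
    intro x y
    have hexp : ∀ v : Fin 3 → F, P *ᵥ v = ∑ i, v i • b i := fun v => by
      conv_lhs => rw [eq_sum_eI v, Matrix.mulVec_sum]
      exact Finset.sum_congr rfl fun i _ => by rw [Matrix.mulVec_smul, hcol]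
    show B (P *ᵥ y) (P *ᵥ x) = _
    rw [hexp x, hexp y]
    simp only [map_sum, LinearMap.map_smulₛₗ, LinearMap.map_smul, LinearMap.sum_apply,
      LinearMap.smul_apply, smul_eq_mul]
    simp [hb, hermForm, conjHom_apply, mul_comm]
  have hPdet : IsUnit P.det := by
    rw [← Matrix.isUnit_iff_isUnit_det, ← Matrix.mulVec_injective_iff_isUnit]
    intro x y hxy
    refine sub_eq_zero.1 (eq_zero_of_herm hF fun z => ?_)
    rw [herm_sub_left, ← hP x z, ← hP y z]
    rw [show P *ᵥ x = P *ᵥ y from hxy, sub_self]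
  set A : Matrix (Fin 3) (Fin 3) F := P⁻¹ * M * P with hA
  have hAdet : A.det = 1 := by
    rw [hA, det_mul, det_mul, hdet, mul_one, ← det_mul, nonsing_inv_mul _ hPdet, det_one]
  have hPA : ∀ v, P *ᵥ (A *ᵥ v) = M *ᵥ (P *ᵥ v) := fun v => by
    rw [Matrix.mulVec_mulVec, Matrix.mulVec_mulVec, hA, ← mul_assoc, ← mul_assoc, mul_nonsing_inv _ hPdet,
      one_mul]
  let g : SU 3 F q := ⟨⟨A, hAdet⟩, fun x y => by
    show herm q (A *ᵥ x) (A *ᵥ y) = herm q x y
    rw [← hP, hPA, hPA, hinv, hP]⟩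
  set o := orderOf (QuotientGroup.mk g : PSU 3 F q) with ho
  have hNo : N ∣ o := by
    have h1 : (QuotientGroup.mk g : PSU 3 F q) ^ o = 1 := pow_orderOf_eq_one _
    rw [← QuotientGroup.mk_pow, QuotientGroup.eq_one_iff, mem_center_iff hF (by norm_num)] at h1
    obtain ⟨r, hr⟩ := h1
    refine hscal o r ?_
    have hAo : A ^ o = r • (1 : Matrix (Fin 3) (Fin 3) F) := by
      refine Matrix.ext_of_mulVec_single fun i => ?_
      rw [Matrix.smul_mulVec, Matrix.one_mulVec]
      exact hr (Pi.single i 1)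
    have hconj : ∀ k : ℕ, P * A ^ k = M ^ k * P := by
      intro k
      induction k with
      | zero => simp
      | succ k ih =>
        rw [pow_succ, ← mul_assoc, ih, mul_assoc, hA, ← mul_assoc P, ← mul_assoc P,
          mul_nonsing_inv _ hPdet, one_mul, pow_succ, mul_assoc]
    have h2 := hconj o
    rw [hAo, Matrix.mul_smul, mul_one] at h2
    have h3 := congrArg (· * P⁻¹) h2
    simp only [Matrix.smul_mul, mul_nonsing_inv _ hPdet, mul_assoc, mul_one] at h3
    exact h3.symm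
  obtain ⟨c, hc⟩ := hs.trans hNo
  have ho0 : 0 < o := orderOf_pos _
  have hc0 : c ≠ 0 := fun e => by simp [e] at hc; omega
  have hs0 : s ≠ 0 := fun e => by simp [e] at hc; omega
  refine ⟨(QuotientGroup.mk g : PSU 3 F q) ^ c, ?_⟩
  rw [orderOf_pow_of_dvd hc0 ⟨s, by rw [← ho, hc, mul_comm]⟩, ← ho, hc,
    Nat.mul_div_cancel _ (Nat.pos_of_ne_zero hc0)]

/-- The standard form. -/
theorem formOf_one (v w : Fin 3 → F) : formOf q (1 : Matrix (Fin 3) (Fin 3) F) v w = herm q v w := by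
  simp [formOf, dotProduct, hermForm]

/-- A hyperbolic pair and a unit vector. -/
def hyp (F : Type*) [Field F] : Matrix (Fin 3) (Fin 3) F := !![0, 1, 0; 1, 0, 0; 0, 0, 1]

theorem formOf_hyp (v w : Fin 3 → F) :
    formOf q (hyp F) v w = v 0 * w 1 ^ q + v 1 * w 0 ^ q + v 2 * w 2 ^ q := by
  simp [formOf, hyp, dotProduct, Matrix.mulVec, Fin.sum_univ_three]

theorem hyp_herm (hF : Fintype.card F = q ^ 2) : ∀ i j, hyp F i j ^ q = hyp F j i := by
  intro i j
  fin_cases i <;> fin_cases j <;> simp [hyp, zero_pow (q_pos hF).ne']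

theorem hyp_nondeg (hF : Fintype.card F = q ^ 2) :
    ∀ v : Fin 3 → F, (∀ w, formOf q (hyp F) v w = 0) → v = 0 := by
  intro v h
  have h0 := h (eI 1)
  have h1 := h (eI 0)
  have h2 := h (eI 2)
  simp [formOf_hyp, eI, Pi.single_apply, zero_pow (q_pos hF).ne'] at h0 h1 h2
  funext i
  fin_cases i <;> simp [h0, h1, h2]

theorem exists_generator_order (hF : Fintype.card F = q ^ 2) : ∃ b : Fˣ, orderOf b = q ^ 2 - 1 := by
  obtain ⟨b, hb⟩ := IsCyclic.exists_generator (α := Fˣ)
  exact ⟨b, by rw [orderOf_eq_card_of_forall_mem_zpowers hb, Nat.card_units, Nat.card_eq_fintype_card, hF]⟩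

theorem q_sq_sub (hq : 2 ≤ q) : q ^ 2 - 1 = (q + 1) * (q - 1) := by
  rw [← Nat.sq_sub_sq, one_pow]

theorem dvd_of_coprime_three {e t d m : ℕ} (hd0 : 0 < d) (hd : d = Nat.gcd 3 (q + 1)) (he : q + 1 = d * e)
    (ht : 3 = d * t) (h : q + 1 ∣ 3 * m) : e ∣ m := by
  have hcop : Nat.Coprime e t := by
    have h1 := Nat.coprime_div_gcd_div_gcd (m := 3) (n := q + 1) (hd ▸ hd0)
    have he' : (q + 1) / Nat.gcd 3 (q + 1) = e := by rw [← hd, he, Nat.mul_div_cancel_left _ hd0]
    have ht' : 3 / Nat.gcd 3 (q + 1) = t := by rw [← hd, ht, Nat.mul_div_cancel_left _ hd0]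
    rw [he', ht'] at h1
    exact h1.symm
  rw [he, ht, mul_assoc] at h
  exact hcop.dvd_of_dvd_mul_left (Nat.dvd_of_mul_dvd_mul_left hd0 h)

/-- Order `q + 1`. -/
theorem mem_torus_one (hF : Fintype.card F = q ^ 2) {s : ℕ} (hs : s ∣ q + 1) :
    s ∈ Set.range (orderOf : PSU 3 F q → ℕ) := by
  obtain ⟨b, hb⟩ := exists_generator_order hF
  have hq := two_le_q hF
  set z : Fˣ := b ^ (q - 1) with hz
  have hzo : orderOf z = q + 1 := by
    rw [hz, orderOf_pow_of_dvd (by omega) (hb ▸ ⟨q + 1, by rw [q_sq_sub hq, mul_comm]⟩), hb, q_sq_sub hq,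
      Nat.mul_div_cancel _ (by omega)]
  have hzq : (z : F) ^ (q + 1) = 1 := by rw [← Units.val_pow_eq_pow_val, ← hzo, pow_orderOf_eq_one, Units.val_one]
  set d : Fin 3 → F := ![(z : F), (z : F)⁻¹, 1] with hd
  have hone : ∀ i, d i ^ (q + 1) = 1 := by
    intro i
    fin_cases i <;> simp [hd, hzq]
  refine witness hF 1 (fun i j => ?_) (fun v h => eq_zero_of_herm hF fun w => ?_) (Matrix.diagonal d) ?_
    (fun v w => ?_) (fun m r hm => ?_) hs
  · by_cases hij : i = j
    · subst hij; simp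
    · simp [Matrix.one_apply_ne hij, Matrix.one_apply_ne (Ne.symm hij), zero_pow (q_pos hF).ne']
  · rw [← formOf_one]; exact h w
  · rw [det_diagonal, Fin.prod_univ_three]
    simp [hd]
  · rw [formOf_one, formOf_one]
    simp only [hermForm, mulVec_diagonal, mul_pow]
    refine Finset.sum_congr rfl fun i _ => ?_
    calc d i * v i * (d i ^ q * w i ^ q) = d i ^ (q + 1) * (v i * w i ^ q) := by ring
      _ = v i * w i ^ q := by rw [hone, one_mul]
  · rw [diagonal_pow] at hm
    have h0 := congrFun (congrFun hm 0) 0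
    have h2 := congrFun (congrFun hm 2) 2
    simp [hd] at h0 h2
    rw [← hzo]
    refine orderOf_dvd_of_pow_eq_one (Units.ext ?_)
    rw [Units.val_pow_eq_pow_val, Units.val_one, h0, h2]

/-- Order `(q^2 - 1) / d`. -/
theorem mem_torus_two (hF : Fintype.card F = q ^ 2) {s : ℕ} (hs : s ∣ (q ^ 2 - 1) / Nat.gcd 3 (q + 1)) :
    s ∈ Set.range (orderOf : PSU 3 F q → ℕ) := by
  obtain ⟨b, hb⟩ := exists_generator_order hF
  have hq := two_le_q hF
  obtain ⟨e, t, he, ht, hd0⟩ := exists_factor (q := q) rfl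
  have hb0 : (b : F) ≠ 0 := b.ne_zero
  have hbqq : ((b : F) ^ q) ^ q = b := pow_q_pow_q hF _
  set d : Fin 3 → F := ![(b : F), ((b : F) ^ q)⁻¹, (b : F) ^ q / b] with hd
  refine witness hF (hyp F) (hyp_herm hF) (hyp_nondeg hF) (Matrix.diagonal d) ?_ (fun v w => ?_)
    (fun m r hm => ?_) hs
  · rw [det_diagonal, Fin.prod_univ_three]
    simp [hd]
    field_simp
  · simp only [formOf_hyp, mulVec_diagonal, mul_pow, hd]
    simp only [Matrix.cons_val_zero, Matrix.cons_val_one, Matrix.cons_val, inv_pow, div_pow, hbqq]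
    field_simp
  · rw [diagonal_pow] at hm
    have h0 := congrFun (congrFun hm 0) 0
    have h1 := congrFun (congrFun hm 1) 1
    have h2 := congrFun (congrFun hm 2) 2
    simp [hd] at h0 h1 h2
    rw [← h0] at h1 h2
    have e1 : b ^ ((q + 1) * m) = 1 := by
      apply Units.ext
      rw [Units.val_pow_eq_pow_val, Units.val_one, pow_mul, pow_succ, mul_pow]
      rw [← h1]
      exact mul_inv_cancel₀ (pow_ne_zero _ (pow_ne_zero _ hb0))
    have e2 : b ^ (q * m) = b ^ (2 * m) := by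
      apply Units.ext
      rw [Units.val_pow_eq_pow_val, Units.val_pow_eq_pow_val, pow_mul, pow_mul, sq, mul_pow]
      rw [div_pow, div_eq_iff (pow_ne_zero _ hb0)] at h2
      exact h2
    rw [← orderOf_dvd_iff_pow_eq_one, hb, q_sq_sub hq] at e1
    obtain ⟨j, rfl⟩ := Nat.dvd_of_mul_dvd_mul_left (show 0 < q + 1 by omega) e1
    rw [show (q ^ 2 - 1) / Nat.gcd 3 (q + 1) = (q - 1) * e from Nat.div_eq_of_eq_mul_right hd0 (by
      rw [q_sq_sub hq, mul_comm (q - 1), ← mul_assoc, ← he])]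
    refine Nat.mul_dvd_mul_left _ (dvd_of_coprime_three hd0 rfl he ht ?_)
    have e3 : b ^ ((q - 2) * ((q - 1) * j)) = 1 := by
      rw [show q * ((q - 1) * j) = (q - 2) * ((q - 1) * j) + 2 * ((q - 1) * j) by
        rw [← add_mul, Nat.sub_add_cancel hq], pow_add, mul_eq_right] at e2
      exact e2
    rw [← orderOf_dvd_iff_pow_eq_one, hb, q_sq_sub hq, ← mul_assoc, mul_comm (q - 2), mul_assoc,
      mul_comm (q + 1)] at e3
    have e4 : q + 1 ∣ (q - 2) * j := Nat.dvd_of_mul_dvd_mul_left (show 0 < q - 1 by omega) e3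
    have e5 : (q + 1) * j = (q - 2) * j + 3 * j := by rw [← add_mul]; congr 1; omega
    exact (Nat.dvd_add_right e4).1 (e5 ▸ dvd_mul_right (q + 1) j)

/-- Order `p (q + 1) / d`. -/
theorem mem_unipotent (p : ℕ) [Fact p.Prime] [CharP F p] (hF : Fintype.card F = q ^ 2) {s : ℕ}
    (hs : s ∣ p * (q + 1) / Nat.gcd 3 (q + 1)) : s ∈ Set.range (orderOf : PSU 3 F q → ℕ) := by
  obtain ⟨b, hb⟩ := exists_generator_order hF
  have hq := two_le_q hF
  obtain ⟨e, t, he, ht, hd0⟩ := exists_factor (q := q) rfl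
  obtain ⟨c, hc0, hc⟩ := exists_trace_zero_ne_zero hF
  set z : Fˣ := b ^ (q - 1) with hz
  have hzo : orderOf z = q + 1 := by
    rw [hz, orderOf_pow_of_dvd (by omega) (hb ▸ ⟨q + 1, by rw [q_sq_sub hq, mul_comm]⟩), hb, q_sq_sub hq,
      Nat.mul_div_cancel _ (by omega)]
  have hzq : (z : F) * (z : F) ^ q = 1 := by
    rw [← pow_succ', ← Units.val_pow_eq_pow_val, ← hzo, pow_orderOf_eq_one, Units.val_one]
  have hz0 : (z : F) ≠ 0 := z.ne_zero
  set w : F := ((z : F) * z)⁻¹ with hw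
  have hwq : w * w ^ q = 1 := by
    rw [hw, inv_pow, mul_pow, ← mul_inv, mul_mul_mul_comm, hzq, one_mul, inv_one]
  set M : Matrix (Fin 3) (Fin 3) F := !![(z : F), z * c, 0; 0, z, 0; 0, 0, w] with hM
  refine witness hF (hyp F) (hyp_herm hF) (hyp_nondeg hF) M ?_ (fun v u => ?_) (fun m r hm => ?_) hs
  · rw [det_fin_three]
    simp [hM, hw, hz0]
    field_simp
  · simp only [formOf_hyp]
    simp [hM, Matrix.mulVec, dotProduct, Fin.sum_univ_three, mul_pow, add_pow_q hF]
    linear_combination (v 0 * u 1 ^ q + v 1 * u 0 ^ q) * hzq + v 2 * u 2 ^ q * hwq +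
      ((z : F) * (z : F) ^ q * v 1 * u 1 ^ q) * hc
  · have hpow : ∀ k : ℕ, M ^ k =
        !![(z : F) ^ k, (k : F) * ((z : F) ^ k * c), 0; 0, (z : F) ^ k, 0; 0, 0, w ^ k] := by
      intro k
      induction k with
      | zero => ext i j; fin_cases i <;> fin_cases j <;> simp
      | succ k ih =>
        rw [pow_succ, ih, hM]
        ext i j
        fin_cases i <;> fin_cases j <;> simp [Matrix.mul_apply, Fin.sum_univ_three, pow_succ] <;> ring
    rw [hpow] at hm
    have h00 := congrFun (congrFun hm 0) 0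
    have h01 := congrFun (congrFun hm 0) 1
    have h22 := congrFun (congrFun hm 2) 2
    simp at h00 h01 h22
    have hpm : p ∣ m := by
      rw [← CharP.cast_eq_zero_iff F p m]
      exact h01.resolve_right hc0
    have h3 : z ^ (3 * m) = 1 := by
      apply Units.ext
      rw [Units.val_pow_eq_pow_val, Units.val_one, pow_mul]
      rw [← h00, hw, inv_pow] at h22
      have h4 := inv_mul_cancel₀ (pow_ne_zero m (mul_ne_zero hz0 hz0))
      rw [h22] at h4
      rw [← h4]
      ring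
    rw [← orderOf_dvd_iff_pow_eq_one, hzo] at h3
    have hem := dvd_of_coprime_three hd0 rfl he ht h3
    rw [Nat.mul_div_assoc _ (Nat.gcd_dvd_right _ _),
      show (q + 1) / Nat.gcd 3 (q + 1) = e from Nat.div_eq_of_eq_mul_right hd0 he]
    refine Nat.Coprime.mul_dvd_of_dvd_of_dvd ?_ hpm hem
    rw [(Fact.out : p.Prime).coprime_iff_not_dvd]
    intro hpe
    obtain ⟨p', k, hp', hk, hc', hqk⟩ := exists_prime_pow hF
    obtain rfl : p = p' := CharP.eq F ‹CharP F p› hc'
    have h5 : p ∣ q + 1 := he ▸ hpe.trans (dvd_mul_left e _)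
    have h6 : p ∣ q := hqk ▸ dvd_pow_self p hk.ne'
    exact (Fact.out : p.Prime).not_dvd_one ((Nat.dvd_add_right h6).1 h5)

end Cfsg.Agent.PSU3Spec
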