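import Cfsg.Agent.Lib.Unitary.Center
import Cfsg.Agent.AutPSU.Descent

/-!
Upper bound for the element orders of `PSU_3(q)`, by the eigenvalues of an element of `SU_3(q)`:
they are permuted by `x ↦ x^(-q)`.
-/

set_option autoImplicit false

namespace Cfsg.Agent.PSU3Spec

open Polynomial Matrix Cfsg.Agent.Unitary

section Roots

variable {K : Type*} [Field K]

/-- The reverse of a monic cubic with known roots. -/
theorem reverse_prod_three (a b c : K) :
    ((X - C a) * (X - C b) * (X - C c)).reverse = (1 - C a * X) * (1 - C b * X) * (1 - C c * X) := by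
  have h : ∀ x : K, (X - C x).reverse = 1 - C x * X := by
    intro x
    have h1 : (X - C x).natDegree = 1 := natDegree_X_sub_C x
    rw [Polynomial.reverse, h1]
    ext n
    rw [coeff_reflect]
    rcases n with _ | _ | n
    · simp [revAt_le, coeff_X, coeff_C, coeff_one]
    · simp [revAt_le, coeff_X, coeff_C, coeff_one]
    · simp [revAt_eq_self_of_lt, coeff_X, coeff_C, coeff_one]
  rw [reverse_mul_of_domain, reverse_mul_of_domain, h, h, h]

variable [IsAlgClosed K]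

/-- The characteristic polynomial of the inverse of a `3 × 3` matrix of determinant one. -/
theorem roots_charpoly_inv (N : Matrix (Fin 3) (Fin 3) K) (hdet : N.det = 1) :
    N⁻¹.charpoly.roots = N.charpoly.roots.map fun x => x⁻¹ := by
  have hsplit := IsAlgClosed.splits N.charpoly
  have hcard : N.charpoly.roots.card = 3 := by
    rw [← hsplit.natDegree_eq_card_roots, charpoly_natDegree_eq_dim, Fintype.card_fin]
  obtain ⟨a, b, c, habc⟩ := Multiset.card_eq_three.mp hcard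
  have hP : N.charpoly = (X - C a) * (X - C b) * (X - C c) := by
    rw [hsplit.eq_prod_roots_of_monic N.charpoly_monic, habc]
    simp [mul_assoc]
  have hprod : a * (b * c) = 1 := by
    rw [← hdet, det_eq_prod_roots_charpoly, habc]
    simp
  have ha : a ≠ 0 := fun e => by simp [e] at hprod
  have hb : b ≠ 0 := fun e => by simp [e] at hprod
  have hc : c ≠ 0 := fun e => by simp [e] at hprod
  have hunit : IsUnit N := (isUnit_iff_isUnit_det N).mpr (hdet ▸ isUnit_one)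
  have h1 : N⁻¹.charpoly = ((X - C a⁻¹) * (X - C b⁻¹) * (X - C c⁻¹)) := by
    rw [charpoly_inv N hunit, ← reverse_charpoly, hP, reverse_prod_three, hdet, Ring.inverse_one,
      map_one, mul_one, Fintype.card_fin]
    have ea : C a⁻¹ * C a = (1 : K[X]) := by rw [← C_mul, inv_mul_cancel₀ ha, C_1]
    have eb : C b⁻¹ * C b = (1 : K[X]) := by rw [← C_mul, inv_mul_cancel₀ hb, C_1]
    have ec : C c⁻¹ * C c = (1 : K[X]) := by rw [← C_mul, inv_mul_cancel₀ hc, C_1]
    have eabc : C a * C b * C c = (1 : K[X]) := by rw [← C_mul, ← C_mul, mul_assoc, hprod, C_1]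
    have key : ∀ {x : K}, C x⁻¹ * C x = 1 → (1 - C x * X : K[X]) = -C x * (X - C x⁻¹) := by
      intro x hx
      linear_combination (-1 : K[X]) * hx
    rw [key ea, key eb, key ec]
    linear_combination ((X - C a⁻¹) * (X - C b⁻¹) * (X - C c⁻¹)) * eabc
  rw [h1, habc, roots_mul, roots_mul, roots_X_sub_C, roots_X_sub_C, roots_X_sub_C]
  · simp
  · exact mul_ne_zero (X_sub_C_ne_zero _) (X_sub_C_ne_zero _)
  · exact mul_ne_zero (mul_ne_zero (X_sub_C_ne_zero _) (X_sub_C_ne_zero _)) (X_sub_C_ne_zero _)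

end Roots

section Arith

variable {q d : ℕ}

/-- Integer divisibilities behind the three exponents. -/
theorem exists_factor (hd : d = Nat.gcd 3 (q + 1)) :
    ∃ e t : ℕ, q + 1 = d * e ∧ 3 = d * t ∧ 0 < d := by
  subst hd
  obtain ⟨e, he⟩ := Nat.gcd_dvd_right 3 (q + 1)
  obtain ⟨t, ht⟩ := Nat.gcd_dvd_left 3 (q + 1)
  exact ⟨e, t, he, ht, Nat.gcd_pos_of_pos_left _ (by norm_num)⟩

theorem zpow_eq_one_of_dvd {G : Type*} [Group G] {x : G} {n k : ℤ} (hn : x ^ n = 1) (hk : n ∣ k) :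
    x ^ k = 1 := by
  obtain ⟨l, rfl⟩ := hk
  rw [_root_.zpow_mul, hn, _root_.one_zpow]

end Arith

section Units

variable {G : Type*} [CommGroup G] {q d : ℕ} {a b c : G}

/-- One fixed eigenvalue and two interchanged ones. -/
theorem swap_case (hd : d = Nat.gcd 3 (q + 1)) (hq : 2 ≤ q) (hc : c = (b ^ q)⁻¹) (hb : b = (c ^ q)⁻¹)
    (hp : a * b * c = 1) :
    b ^ ((q ^ 2 - 1) / d) = a ^ ((q ^ 2 - 1) / d) ∧ c ^ ((q ^ 2 - 1) / d) = a ^ ((q ^ 2 - 1) / d) := by
  obtain ⟨e, t, he, ht, hd0⟩ := exists_factor hd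
  obtain ⟨s, rfl⟩ : ∃ s, q = s + 1 := ⟨q - 1, by omega⟩
  set m := ((s + 1) ^ 2 - 1) / d
  have hm : m = e * s := by
    have h1 : (s + 1) ^ 2 - 1 = d * (e * s) := by
      rw [← mul_assoc, ← he]
      exact Nat.sub_eq_of_eq_add (by ring)
    show ((s + 1) ^ 2 - 1) / d = e * s
    rw [h1, Nat.mul_div_cancel_left _ hd0]
  have hcz : c = b ^ (-((s : ℤ) + 1)) := by
    rw [hc, _root_.zpow_neg, show ((s : ℤ) + 1) = ((s + 1 : ℕ) : ℤ) by push_cast; rfl, zpow_natCast]
  have hb2 : b ^ ((((s : ℤ) + 1) ^ 2) - 1) = 1 := by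
    have h1 : b = b ^ (((s : ℤ) + 1) ^ 2) := by
      conv_lhs => rw [hb]
      rw [hcz, ← zpow_natCast, ← _root_.zpow_mul, ← _root_.zpow_neg]
      push_cast
      ring_nf
    rw [_root_.zpow_sub_one, ← h1, mul_inv_cancel]
  have haz : a = b ^ (s : ℤ) := by
    rw [hcz, mul_assoc, ← _root_.zpow_one_add, mul_eq_one_iff_eq_inv, ← _root_.zpow_neg] at hp
    rw [hp]
    ring_nf
  have hem : ((((s : ℤ) + 1) ^ 2) - 1) = (d : ℤ) * ((e : ℤ) * s) := by
    have h1 : ((s : ℤ) + 1 + 1) = d * e := by exact_mod_cast he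
    linear_combination (s : ℤ) * h1
  have ht' : (3 : ℤ) = d * t := by exact_mod_cast ht
  have he' : ((s : ℤ) + 1 + 1) = d * e := by exact_mod_cast he
  constructor
  · rw [haz, ← zpow_natCast, ← zpow_natCast, ← _root_.zpow_mul, ← div_eq_one, div_eq_mul_inv,
      ← _root_.zpow_sub]
    refine zpow_eq_one_of_dvd hb2 ⟨(t : ℤ) - e, ?_⟩
    rw [hem, hm]
    push_cast
    linear_combination ((e : ℤ) * s) * ht' - ((e : ℤ) * s) * he'
  · rw [haz, hcz, ← zpow_natCast, ← zpow_natCast, ← _root_.zpow_mul, ← _root_.zpow_mul, ← div_eq_one,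
      div_eq_mul_inv, ← _root_.zpow_sub]
    refine zpow_eq_one_of_dvd hb2 ⟨(t : ℤ) - 2 * e, ?_⟩
    rw [hem, hm]
    push_cast
    linear_combination ((e : ℤ) * s) * ht' - (2 * (e : ℤ) * s) * he'

/-- Three eigenvalues permuted cyclically. -/
theorem cycle_case (hd : d = Nat.gcd 3 (q + 1)) (hb : b = (a ^ q)⁻¹) (hc : c = (b ^ q)⁻¹)
    (hp : a * b * c = 1) :
    b ^ ((q ^ 2 - q + 1) / d) = a ^ ((q ^ 2 - q + 1) / d) ∧
      c ^ ((q ^ 2 - q + 1) / d) = a ^ ((q ^ 2 - q + 1) / d) := by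
  obtain ⟨e, t, he, ht, hd0⟩ := exists_factor hd
  set m := (q ^ 2 - q + 1) / d
  have hqq : q ≤ q ^ 2 := Nat.le_self_pow two_ne_zero q
  have ht' : (3 : ℤ) = d * t := by exact_mod_cast ht
  have he' : ((q : ℤ) + 1) = d * e := by exact_mod_cast he
  have hdm : (d : ℤ) * m = (q : ℤ) ^ 2 - q + 1 := by
    have hdvd : d ∣ q ^ 2 - q + 1 := by
      have hcast : ((q ^ 2 - q + 1 : ℕ) : ℤ) = d * ((q : ℤ) * e - 2 * e + t) := by
        push_cast [Nat.cast_sub hqq]
        linear_combination ((q : ℤ) - 2) * he' + ht'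
      exact Int.natCast_dvd_natCast.mp ⟨_, hcast⟩
    have h1 : d * m = q ^ 2 - q + 1 := Nat.mul_div_cancel' hdvd
    have h2 := congrArg (fun n : ℕ => (n : ℤ)) h1
    push_cast [Nat.cast_sub hqq] at h2
    exact h2
  have hbz : b = a ^ (-(q : ℤ)) := by rw [hb, _root_.zpow_neg, zpow_natCast]
  have hcz : c = a ^ ((q : ℤ) ^ 2) := by
    rw [hc, hbz, ← zpow_natCast, ← _root_.zpow_mul, ← _root_.zpow_neg]
    ring_nf
  have ha : a ^ ((q : ℤ) ^ 2 - q + 1) = 1 := by
    rw [← hp, hbz, hcz]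
    conv_rhs => rw [← _root_.zpow_one_add, ← _root_.zpow_add]
    ring_nf
  rw [← hdm] at ha
  constructor
  · rw [hbz, ← zpow_natCast, ← zpow_natCast, ← _root_.zpow_mul, ← div_eq_one, div_eq_mul_inv,
      ← _root_.zpow_sub]
    refine zpow_eq_one_of_dvd ha ⟨-(e : ℤ), ?_⟩
    linear_combination (-(m : ℤ)) * he'
  · rw [hcz, ← zpow_natCast, ← zpow_natCast, ← _root_.zpow_mul, ← div_eq_one, div_eq_mul_inv,
      ← _root_.zpow_sub]
    refine zpow_eq_one_of_dvd ha ⟨(e : ℤ) * (q - 1), ?_⟩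
    linear_combination ((m : ℤ) * ((q : ℤ) - 1)) * he'

/-- A repeated eigenvalue. -/
theorem repeat_case (hd : d = Nat.gcd 3 (q + 1)) (ha : a ^ (q + 1) = 1) (hp : a * a * c = 1) :
    c ^ ((q + 1) / d) = a ^ ((q + 1) / d) := by
  obtain ⟨e, t, he, ht, hd0⟩ := exists_factor hd
  have hm : (q + 1) / d = e := by rw [he, Nat.mul_div_cancel_left _ hd0]
  have h1 : a ^ (3 * e) = 1 := by
    rw [ht, mul_right_comm, ← he, pow_mul, ha, one_pow]
  have hc : c = (a * a)⁻¹ := eq_inv_of_mul_eq_one_right hp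
  rw [hm, hc, inv_pow, inv_eq_iff_mul_eq_one, ← mul_pow]
  rw [show a * a * a = a ^ 3 by rw [pow_three, mul_assoc], ← pow_mul, h1]

end Units

section Annihilate

variable {K : Type*} [Field K]

/-- If all roots have the same `m`-th power `r`, then `(N^m - r)` is killed by a high power. -/
theorem pow_smul_of_repeated {p : ℕ} [Fact p.Prime] [CharP K p] (hp : 3 ≤ p)
    (N : Matrix (Fin 3) (Fin 3) K) {a b c r : K} {m : ℕ}
    (hP : N.charpoly = (X - C a) * (X - C b) * (X - C c))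
    (ha : a ^ m = r) (hb : b ^ m = r) (hc : c ^ m = r) :
    N ^ (p * m) = r ^ p • (1 : Matrix (Fin 3) (Fin 3) K) := by
  set Q : K[X] := X ^ m - C r
  have hdvd : ∀ {x : K}, x ^ m = r → X - C x ∣ Q := fun {x} hx => by
    rw [dvd_iff_isRoot]
    simp [Q, hx]
  have h3 : N.charpoly ∣ Q ^ p := by
    rw [hP]
    refine (mul_dvd_mul (mul_dvd_mul (hdvd ha) (hdvd hb)) (hdvd hc)).trans ?_
    rw [show Q * Q * Q = Q ^ 3 by ring]
    exact pow_dvd_pow Q hp
  obtain ⟨S, hS⟩ := h3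
  have h1 := congrArg (aeval N) hS
  rw [map_mul, aeval_self_charpoly, zero_mul] at h1
  have hQ : Q ^ p = X ^ (p * m) - C (r ^ p) := by
    simp only [Q, sub_pow_char, ← pow_mul, map_pow, mul_comm p m]
  rw [hQ, map_sub, map_pow, aeval_X, aeval_C, sub_eq_zero, Algebra.algebraMap_eq_smul_one] at h1
  exact h1

/-- Distinct roots with the same `m`-th power. -/
theorem pow_smul_of_distinct (N : Matrix (Fin 3) (Fin 3) K) {a b c r : K} {m : ℕ}
    (hP : N.charpoly = (X - C a) * (X - C b) * (X - C c)) (hab : a ≠ b) (hac : a ≠ c) (hbc : b ≠ c)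
    (ha : a ^ m = r) (hb : b ^ m = r) (hc : c ^ m = r) :
    N ^ m = r • (1 : Matrix (Fin 3) (Fin 3) K) := by
  set Q : K[X] := X ^ m - C r
  have hdvd : ∀ {x : K}, x ^ m = r → X - C x ∣ Q := fun {x} hx => by
    rw [dvd_iff_isRoot]
    simp [Q, hx]
  have hco : ∀ {x y : K}, x ≠ y → IsCoprime (X - C x) (X - C y) := fun h =>
    isCoprime_X_sub_C_of_isUnit_sub (sub_ne_zero.mpr h).isUnit
  have h3 : N.charpoly ∣ Q := by
    rw [hP]
    exact ((hco hac).mul_left (hco hbc)).mul_dvd ((hco hab).mul_dvd (hdvd ha) (hdvd hb)) (hdvd hc)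
  obtain ⟨S, hS⟩ := h3
  have h1 := congrArg (aeval N) hS
  rw [map_mul, aeval_self_charpoly, zero_mul] at h1
  rw [map_sub, map_pow, aeval_X, aeval_C, sub_eq_zero, Algebra.algebraMap_eq_smul_one] at h1
  exact h1

end Annihilate

end Cfsg.Agent.PSU3Spec
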